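import Cfsg.Agent.H703.Lat.Basic

/-!
# S4874, `p = 2`: `k(B₀) = 5` implies `|P| ≤ 64` (helper58)

The lattice lemma of helper703 for the multiples `u Θ` of `Θ = ∑ χ(1) χ`, modulo `8, 16, 32, 64, 128`.
-/

set_option autoImplicit false
set_option linter.unusedSectionVars false

open Cfsg

namespace Cfsg.Agent.H58.Five

open Cfsg.Agent.Characters.Core Cfsg.Agent.Blocks Cfsg.Agent.Blocks.Basic Cfsg.Agent.Blocks.LocalRing Cfsg.Agent.H703.Lat

universe u

/-- the absolute value of the symmetric residue -/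
def R (N n : ℕ) : ℕ := min (n % N) (N - n % N)

theorem R_lift {N : ℕ} (hN : 0 < N) (n : ℕ) : R (2 * N) n = R N n ∨ R (2 * N) n = N - R N n := by
  have h1 : n % N = (n % (2 * N)) % N := (Nat.mod_mod_of_dvd n (Dvd.intro_left 2 rfl)).symm
  have h2 : n % (2 * N) < 2 * N := Nat.mod_lt _ (by omega)
  unfold R
  rw [h1]
  set m := n % (2 * N) with hm
  clear_value m
  rcases lt_or_ge m N with h | h
  · rw [Nat.mod_eq_of_lt h]
    omega
  · have h3 : m % N = m - N := by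
      rw [Nat.mod_eq_sub_mod h, Nat.mod_eq_of_lt (by omega)]
    rw [h3]
    omega

/-- the symmetric residue -/
def sr (N : ℕ) (n : ℤ) : ℤ := if 2 * (n % N) ≤ N then n % N else n % N - N

theorem sr_sq {N : ℕ} (hN : 0 < N) (n : ℕ) : sr N (n : ℤ) ^ 2 = (R N n : ℤ) ^ 2 := by
  have h2 : n % N < N := Nat.mod_lt _ hN
  have h3 : ((n : ℤ) % (N : ℤ)) = ((n % N : ℕ) : ℤ) := by norm_cast
  unfold sr R
  rw [h3]
  set m := n % N
  split_ifs with h
  · have : min m (N - m) = m := by omega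
    rw [this]
  · have h4 : min m (N - m) = N - m := by omega
    rw [h4, Nat.cast_sub h2.le]
    ring

theorem sr_abs {N : ℕ} (hN : 0 < N) (n : ℕ) : |sr N (n : ℤ)| = (R N n : ℤ) := by
  have h := sr_sq hN n
  rw [← sq_abs] at h
  nlinarith [abs_nonneg (sr N (n : ℤ)), Int.natCast_nonneg (R N n)]

theorem sr_congr {N : ℕ} (n : ℤ) : (N : ℤ) ∣ sr N n - n := by
  unfold sr
  have h : (N : ℤ) ∣ n % N - n := by
    have := Int.emod_add_mul_ediv n N
    exact ⟨-(n / N), by linarith⟩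
  split_ifs
  · exact h
  · have : n % (N : ℤ) - N - n = (n % N - n) - N := by ring
    rw [this]
    exact dvd_sub h dvd_rfl

variable {G : Type u} [Group G] [Finite G] {M : Ideal AlgInt}

theorem inv_sr (N u : ℕ) : Inv fun χ : IrrCharacter G => sr N ((u * charDegree (χ : G → ℂ) : ℕ) : ℤ) :=
  inv_deg fun n => sr N ((u * n : ℕ) : ℤ)

/-- the lattice inequality for `u Θ` modulo `N = 2 ^ a` -/
theorem ineq {p : ℕ} (hM : IsPModular p M) {a : ℕ} (ha : p ^ a ∣ Nat.card G) (u : ℕ) :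
    p ^ a * R (p ^ a) u ≤ ∑ χ ∈ B0 M G, R (p ^ a) (u * charDegree (χ : G → ℂ)) ^ 2 := by
  have hp : 0 < p ^ a := pow_pos hM.1.pos _
  obtain ⟨F, hF⟩ := exists_F hM (good_principal (G := G) hM) ha (inv_sr (G := G) (p ^ a) u) (m := u)
    (fun χ _ => by
      have := sr_congr (N := p ^ a) ((u * charDegree (χ : G → ℂ) : ℕ) : ℤ)
      push_cast at this ⊢
      exact this)
  have h := lattice hp.ne' (one_mem_B0 hM) hF
  have h1 : charDegree ((⟨fun _ => 1, isIrrCharacter_one⟩ : IrrCharacter G) : G → ℂ) = 1 := by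
    have := irr_one_eq_charDegree (G := G) (isIrrCharacter_one (G := G))
    exact_mod_cast this.symm
  simp only [h1, mul_one] at h
  rw [sr_abs hp] at h
  have h2 : ∑ χ ∈ B0 M G, sr (p ^ a) ((u * charDegree (χ : G → ℂ) : ℕ) : ℤ) ^ 2 =
      ((∑ χ ∈ B0 M G, R (p ^ a) (u * charDegree (χ : G → ℂ)) ^ 2 : ℕ) : ℤ) := by
    push_cast
    exact Finset.sum_congr rfl fun χ _ => by exact_mod_cast sr_sq hp (u * charDegree (χ : G → ℂ))
  rw [h2] at h
  exact_mod_cast h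

/-- the congruence `∑ χ(1)² ≡ 0` -/
theorem dvd_sum {p : ℕ} (hM : IsPModular p M) {a : ℕ} (ha : p ^ a ∣ Nat.card G) :
    p ^ a ∣ ∑ χ ∈ B0 M G, charDegree (χ : G → ℂ) ^ 2 := by
  obtain ⟨n, hn⟩ := theta_dvd hM (good_principal (G := G) hM) ha 1
  have h1 : ((∑ χ ∈ B0 M G, charDegree (χ : G → ℂ) ^ 2 : ℕ) : ℂ) = ((((p ^ a : ℕ) : ℤ) * n : ℤ) : ℂ) := by
    push_cast at hn ⊢
    rw [← hn]
    exact Finset.sum_congr rfl fun χ _ => by rw [irr_one_eq_charDegree χ.2, sq]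
  have h2 : ((∑ χ ∈ B0 M G, charDegree (χ : G → ℂ) ^ 2 : ℕ) : ℤ) = ((p ^ a : ℕ) : ℤ) * n := by
    exact_mod_cast h1
  exact Int.natCast_dvd_natCast.1 ⟨n, h2⟩

/-- a 4-tuple of residues (the trivial character is the fifth entry) -/
abbrev Tup := ℕ × ℕ × ℕ × ℕ

/-- the residues of a 4-tuple -/
def tup (N a b c d : ℕ) : Tup := (R N a, R N b, R N c, R N d)

/-- the test -/
def ok (N : ℕ) (t : Tup) : Bool :=
  (1 + t.1 ^ 2 + t.2.1 ^ 2 + t.2.2.1 ^ 2 + t.2.2.2 ^ 2) % N == 0 &&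
    (List.range N).all fun u => decide (N * R N u ≤
      R N u ^ 2 + R N (u * t.1) ^ 2 + R N (u * t.2.1) ^ 2 + R N (u * t.2.2.1) ^ 2 + R N (u * t.2.2.2) ^ 2)

def lifts (N : ℕ) (t : Tup) : List Tup :=
  [t.1, N - t.1].flatMap fun a => [t.2.1, N - t.2.1].flatMap fun b => [t.2.2.1, N - t.2.2.1].flatMap fun c =>
    [t.2.2.2, N - t.2.2.2].map fun d => (a, b, c, d)

def step (N : ℕ) (L : List Tup) : List Tup := (L.flatMap (lifts N)).filter (ok (2 * N))

theorem R_mul_sq {N : ℕ} (hN : 0 < N) (u n : ℕ) : R N (u * R N n) = R N (u * n) := by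
  unfold R
  have h2 : n % N < N := Nat.mod_lt _ hN
  rcases le_total (n % N) (N - n % N) with h | h
  · rw [min_eq_left h, Nat.mul_mod, Nat.mod_mod, ← Nat.mul_mod]
  · rw [min_eq_right h]
    -- `u (N - m) ≡ - u m`
    have h3 : (u * (N - n % N) + u * n) % N = 0 := by
      have h4 : u * (N - n % N) + u * n = N * (u + u * (n / N)) := by
        have h5 := Nat.mod_add_div n N
        have h6 : (N - n % N) + n = N + N * (n / N) := by omega
        rw [← Nat.mul_add, h6]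
        ring
      rw [h4]
      exact Nat.mul_mod_right _ _
    rw [Nat.add_mod] at h3
    have h7 : (u * (N - n % N)) % N < N := Nat.mod_lt _ hN
    have h8 : (u * n) % N < N := Nat.mod_lt _ hN
    set x := (u * (N - n % N)) % N
    set y := (u * n) % N
    have h9 : x + y = 0 ∨ x + y = N := by
      obtain ⟨k, hk⟩ := Nat.dvd_of_mod_eq_zero h3
      rcases k with _ | _ | k
      · left; omega
      · right; omega
      · exfalso; nlinarith
    omega

theorem R_sq_congr {N : ℕ} (hN : 0 < N) (n : ℕ) : ((R N n : ℤ) ^ 2) % N = ((n : ℤ) ^ 2) % N := by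
  have h1 := sr_sq hN n
  have h2 := sr_congr (N := N) (n : ℤ)
  have h3 : (N : ℤ) ∣ sr N n ^ 2 - (n : ℤ) ^ 2 := by
    have : sr N n ^ 2 - (n : ℤ) ^ 2 = (sr N n - n) * (sr N n + n) := by ring
    rw [this]
    exact Dvd.dvd.mul_right h2 _
  rw [← h1]
  exact (Int.modEq_iff_dvd.2 h3).symm

theorem mem_step {N : ℕ} (hN : 0 < N) {L : List Tup} {a b c d : ℕ} (h : tup N a b c d ∈ L)
    (h1 : 2 * N ∣ 1 + a ^ 2 + b ^ 2 + c ^ 2 + d ^ 2)
    (h2 : ∀ u, 2 * N * R (2 * N) u ≤ R (2 * N) u ^ 2 + R (2 * N) (u * a) ^ 2 + R (2 * N) (u * b) ^ 2 +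
      R (2 * N) (u * c) ^ 2 + R (2 * N) (u * d) ^ 2) : tup (2 * N) a b c d ∈ step N L := by
  have hN2 : 0 < 2 * N := by omega
  unfold step
  rw [List.mem_filter, List.mem_flatMap]
  refine ⟨⟨_, h, ?_⟩, ?_⟩
  · unfold lifts tup
    simp only [List.mem_flatMap, List.mem_map, List.mem_cons, List.not_mem_nil, or_false]
    exact ⟨_, R_lift hN a, _, R_lift hN b, _, R_lift hN c, _, R_lift hN d, rfl⟩
  · unfold ok tup
    simp only [Bool.and_eq_true, beq_iff_eq, List.all_eq_true, decide_eq_true_eq]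
    refine ⟨?_, fun u _ => ?_⟩
    · have h3 : (((1 + R (2 * N) a ^ 2 + R (2 * N) b ^ 2 + R (2 * N) c ^ 2 + R (2 * N) d ^ 2 : ℕ) : ℤ)) %
          ((2 * N : ℕ) : ℤ) = ((1 + a ^ 2 + b ^ 2 + c ^ 2 + d ^ 2 : ℕ) : ℤ) % ((2 * N : ℕ) : ℤ) := by
        push_cast [-Nat.cast_mul]
        exact ((((Int.ModEq.refl 1).add (R_sq_congr hN2 a)).add (R_sq_congr hN2 b)).add (R_sq_congr hN2 c)).add
          (R_sq_congr hN2 d)
      have h4 := Nat.mod_eq_zero_of_dvd h1
      have h5 : (((1 + a ^ 2 + b ^ 2 + c ^ 2 + d ^ 2 : ℕ) : ℤ) % ((2 * N : ℕ) : ℤ)) = 0 := by exact_mod_cast h4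
      rw [h5] at h3
      exact_mod_cast h3
    · rw [R_mul_sq hN2, R_mul_sq hN2, R_mul_sq hN2, R_mul_sq hN2]
      exact h2 u

theorem sq8 (n : ℕ) : (n ^ 2 % 8 = 1 ∧ Odd n) ∨ (n ^ 2 % 8 = 4 ∧ n % 4 = 2) ∨ n ^ 2 % 8 = 0 := by
  have h : n ^ 2 % 8 = (n % 8) ^ 2 % 8 := Nat.pow_mod n 2 8
  have h1 : n % 8 < 8 := Nat.mod_lt _ (by norm_num)
  rw [h, Nat.odd_iff]
  generalize hr : n % 8 = r at h1
  have h2 : n % 2 = r % 2 := by omega
  have h3 : n % 4 = r % 4 := by omega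
  rw [h2, h3]
  interval_cases r <;> simp

/-- the five characters of the principal block -/
theorem exists_five (hM : IsPModular 2 M) (h5 : Nat.card (principalBlock M G) = 5) (h8 : 8 ∣ Nat.card G) :
    ∃ a b c d : ℕ, Odd a ∧ Odd b ∧ Odd c ∧ d % 4 = 2 ∧
      ∀ f : ℕ → ℕ, ∑ χ ∈ B0 M G, f (charDegree (χ : G → ℂ)) = f 1 + f a + f b + f c + f d := by
  classical
  have hcard : (B0 M G).card = 5 := by
    rw [← h5, Nat.card_coe_set_eq, ← Set.ncard_coe_finset]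
    congr 1
    ext χ
    rw [Finset.mem_coe, mem_B0]
  set one : IrrCharacter G := ⟨fun _ => 1, isIrrCharacter_one⟩ with hone
  have h1 : charDegree (one : G → ℂ) = 1 := by
    have := irr_one_eq_charDegree (G := G) (isIrrCharacter_one (G := G))
    exact_mod_cast this.symm
  have hmem : one ∈ B0 M G := one_mem_B0 hM
  have hdvd := dvd_sum (G := G) hM (a := 3) (by simpa using h8)
  obtain ⟨x, t, hxt, hB, ht⟩ := Finset.card_eq_succ.1
    (show ((B0 M G).erase one).card = 3 + 1 by rw [Finset.card_erase_of_mem hmem, hcard])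
  obtain ⟨y, z, w, hyz, hyw, hzw, rfl⟩ := Finset.card_eq_three.1 ht
  have hsum : ∀ f : ℕ → ℕ, ∑ χ ∈ B0 M G, f (charDegree (χ : G → ℂ)) =
      f 1 + f (charDegree (x : G → ℂ)) + f (charDegree (y : G → ℂ)) + f (charDegree (z : G → ℂ)) +
        f (charDegree (w : G → ℂ)) := by
    intro f
    rw [← Finset.add_sum_erase _ _ hmem, ← hB, Finset.sum_insert hxt, Finset.sum_insert (by simp [hyz, hyw]),
      Finset.sum_insert (by simp [hzw]), Finset.sum_singleton, h1]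
    ring
  rw [hsum fun n => n ^ 2] at hdvd
  generalize charDegree (x : G → ℂ) = x at hsum hdvd
  generalize charDegree (y : G → ℂ) = y at hsum hdvd
  generalize charDegree (z : G → ℂ) = z at hsum hdvd
  generalize charDegree (w : G → ℂ) = w at hsum hdvd
  have hx := sq8 x
  have hy := sq8 y
  have hz := sq8 z
  have hw := sq8 w
  have hd : (1 + x ^ 2 + y ^ 2 + z ^ 2 + w ^ 2) % 8 = 0 := by
    have := Nat.mod_eq_zero_of_dvd hdvd
    simpa using this
  generalize hx2 : x ^ 2 = x2 at hx hd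
  generalize hy2 : y ^ 2 = y2 at hy hd
  generalize hz2 : z ^ 2 = z2 at hz hd
  generalize hw2 : w ^ 2 = w2 at hw hd
  have key : (Odd x ∧ Odd y ∧ Odd z ∧ w % 4 = 2) ∨ (Odd x ∧ Odd y ∧ Odd w ∧ z % 4 = 2) ∨
      (Odd x ∧ Odd z ∧ Odd w ∧ y % 4 = 2) ∨ (Odd y ∧ Odd z ∧ Odd w ∧ x % 4 = 2) := by
    rcases hx with ⟨a1, a2⟩ | ⟨a1, a2⟩ | a1 <;> rcases hy with ⟨b1, b2⟩ | ⟨b1, b2⟩ | b1 <;>
      rcases hz with ⟨c1, c2⟩ | ⟨c1, c2⟩ | c1 <;> rcases hw with ⟨d1, d2⟩ | ⟨d1, d2⟩ | d1 <;>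
      first
        | (exfalso; omega)
        | tauto
  rcases key with ⟨k1, k2, k3, k4⟩ | ⟨k1, k2, k3, k4⟩ | ⟨k1, k2, k3, k4⟩ | ⟨k1, k2, k3, k4⟩
  · exact ⟨x, y, z, w, k1, k2, k3, k4, hsum⟩
  · exact ⟨x, y, w, z, k1, k2, k3, k4, fun f => by rw [hsum]; ring⟩
  · exact ⟨x, z, w, y, k1, k2, k3, k4, fun f => by rw [hsum]; ring⟩
  · exact ⟨y, z, w, x, k1, k2, k3, k4, fun f => by rw [hsum]; ring⟩

/-- the residues modulo `2 ^ j`, `j ≥ 2` -/
def Lst : ℕ → List Tup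
  | 0 => [(1, 1, 1, 2)]
  | j + 1 => step (2 ^ (j + 2)) (Lst j)

theorem mem_Lst (hM : IsPModular 2 M) {a b c d : ℕ} (ha : Odd a) (hb : Odd b) (hc : Odd c) (hd : d % 4 = 2)
    (hsum : ∀ f : ℕ → ℕ, ∑ χ ∈ B0 M G, f (charDegree (χ : G → ℂ)) = f 1 + f a + f b + f c + f d) (j : ℕ)
    (hj : 2 ^ (j + 2) ∣ Nat.card G) : tup (2 ^ (j + 2)) a b c d ∈ Lst j := by
  induction j with
  | zero =>
    rw [Nat.odd_iff] at ha hb hc
    have h1 : ∀ n : ℕ, n % 2 = 1 → R (2 ^ (0 + 2)) n = 1 := fun n hn => by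
      unfold R
      norm_num
      omega
    have h2 : R (2 ^ (0 + 2)) d = 2 := by
      unfold R
      norm_num
      omega
    unfold tup Lst
    rw [h1 a ha, h1 b hb, h1 c hc, h2]
    exact List.mem_singleton_self _
  | succ j ih =>
    have h1 := ih ((pow_dvd_pow 2 (by omega)).trans hj)
    have e : 2 ^ (j + 1 + 2) = 2 * 2 ^ (j + 2) := by ring
    rw [e] at hj ⊢
    refine mem_step (by positivity) h1 ?_ fun u => ?_
    · have := dvd_sum (G := G) hM (a := j + 3) (by rw [← e] at hj; exact hj)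
      rw [hsum fun n => n ^ 2] at this
      rw [← e]
      simpa using this
    · have := ineq (G := G) hM (a := j + 3) (by rw [← e] at hj; exact hj) u
      rw [hsum fun n => R (2 ^ (j + 3)) (u * n) ^ 2] at this
      rw [← e]
      simpa using this

theorem Lst_five : Lst 5 = [] := by
  decide +kernel

/-- **`p = 2`, `k(B₀) = 5`: the Sylow 2-subgroups have order at most `64`.** -/
theorem not_dvd_of_five (hM : IsPModular 2 M) (h5 : Nat.card (principalBlock M G) = 5) : ¬ 128 ∣ Nat.card G := by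
  intro h
  obtain ⟨a, b, c, d, ha, hb, hc, hd, hsum⟩ := exists_five hM h5 ((by norm_num : 8 ∣ 128).trans h)
  have h1 := mem_Lst hM ha hb hc hd hsum 5 (by simpa using h)
  rw [Lst_five] at h1
  exact List.not_mem_nil h1

theorem card_le_of_five (hM : IsPModular 2 M) (h5 : Nat.card (principalBlock M G) = 5) (P : Sylow 2 G) :
    Nat.card (P : Subgroup G) ≤ 64 := by
  have : Fact (Nat.Prime 2) := ⟨Nat.prime_two⟩
  obtain ⟨n, hn⟩ := IsPGroup.iff_card.1 P.2
  by_contra hc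
  apply not_dvd_of_five hM h5
  have h7 : 7 ≤ n := by
    by_contra h
    have : n ≤ 6 := by omega
    have := Nat.pow_le_pow_right (n := 2) (by norm_num) this
    rw [hn] at hc
    omega
  have h1 : (128 : ℕ) ∣ Nat.card (P : Subgroup G) := by
    rw [hn]
    exact (by norm_num : (128 : ℕ) = 2 ^ 7) ▸ pow_dvd_pow 2 h7
  exact h1.trans (Subgroup.card_subgroup_dvd_card _)

end Cfsg.Agent.H58.Five
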